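import Groth.Agent.RamifLib.Seq
import Groth.Agent.SymSqLib.Descend
import Groth.Agent.FittLib.OmegaFitt
import Groth.Agent.DerBCLib.LocQ

/-! The Fitting ideal of the cokernel of an injective map of line bundles. -/

set_option autoImplicit false
set_option linter.style.haveILetI false
set_option maxHeartbeats 1000000
universe u

open CategoryTheory CategoryTheory.Limits AlgebraicGeometry TopologicalSpace Opposite
open AmpleLib (GenOn GenAt res)
open HilbPolyLib (congrLeft congrRight assocIso swapIso unitLeft)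

noncomputable section

namespace RamifLib

variable {X : Scheme.{u}} [IsIntegral X] [IsLocallyNoetherian X] {P L : X.Modules}
  (hP : PicF.IsInvertible P) (hL : PicF.IsInvertible L) (c : P ⟶ L) [Mono c]

include hP hL in
theorem fitt_coker_chart {U : X.affineOpens} {e : Γ(P, U.1)} {g : Γ(L, U.1)} (he : GenOn P e) (hg : GenOn L g)
    {a : Γ(X, U.1)} (ha : a • g = c.app U.1 e) :
    (Fitt.sheafIdeal (cokernel c) 0).ideal U = Ideal.span {a} := by
  have hQ := QCohLib.isCoh_cokernel c (CurvLib.isCoh_of_isInvertible hP).1 (CurvLib.isCoh_of_isInvertible hL)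
  haveI := hQ.1
  rw [FittLib.sheafIdeal_ideal _ hQ.2]
  let S : ShortComplex X.Modules := ShortComplex.mk c (cokernel.π c) (cokernel.condition c)
  have hS : S.ShortExact :=
    { exact := ShortComplex.exact_of_g_is_cokernel _ (cokernelIsCokernel c)
      mono_f := inferInstanceAs (Mono c)
      epi_g := inferInstanceAs (Epi (cokernel.π c)) }
  haveI : Coh.IsQCoh S.X₁ := (CurvLib.isCoh_of_isInvertible hP).1
  have gen : ∀ {M : X.Modules} {s : Γ(M, U.1)}, GenOn M s → ∀ t : Γ(M, U.1), ∃ r : Γ(X, U.1), r • s = t :=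
    fun {M s} hs t => by
      obtain ⟨r, hr⟩ := (hs U.1 le_rfl).2 t
      exact ⟨r, by simpa only [AmpleLib.res_refl] using hr⟩
  let F : Γ(X, U.1) →ₗ[Γ(X, U.1)] Γ(cokernel c, U.1) :=
    LinearMap.toSpanSingleton Γ(X, U.1) Γ(cokernel c, U.1) ((cokernel.π c).app U.1 g)
  have hF : Function.Surjective F := fun q => by
    obtain ⟨t, ht⟩ := QCohLib.app_surjective_of_affine hS U.2 q
    obtain ⟨r, rfl⟩ := gen hg t
    exact ⟨r, (QCohLib.app_smul (cokernel.π c) U.1 r g).symm.trans ht⟩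
  have hk : LinearMap.ker F = Ideal.span {a} := by
    ext r
    rw [LinearMap.mem_ker, Ideal.mem_span_singleton']
    constructor
    · intro hr
      have hr' : S.g.app U.1 (r • g) = 0 := (QCohLib.app_smul (cokernel.π c) U.1 r g).trans hr
      obtain ⟨p, hp⟩ := QCohLib.exists_of_app_eq_zero hS.exact hS.mono_f (r • g) hr'
      obtain ⟨b, rfl⟩ := gen he p
      refine ⟨b, (hg U.1 le_rfl).1 ?_⟩
      dsimp only
      rw [AmpleLib.res_refl, mul_smul, ha, ← QCohLib.app_smul c U.1 b e]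
      exact hp
    · rintro ⟨b, rfl⟩
      show (b * a) • (cokernel.π c).app U.1 g = 0
      rw [mul_smul, ← QCohLib.app_smul (cokernel.π c) U.1 a g, ha, ← ConcreteCategory.comp_apply,
        ← Scheme.Modules.Hom.comp_app, cokernel.condition]
      exact smul_zero b
  rw [← FittLib.ideal_congr (LinearMap.quotKerEquivOfSurjective F hF) 0, hk]
  exact FittLib.ideal_quotient _

include hP hL in
/-- `L ⊗ Fitt₀ (L / P) ≅ P`. -/
theorem nonempty_fitt_iso : Nonempty (CohB1.tensorMod L (ClSub.idealMod (Fitt.sheafIdeal (cokernel c) 0)) ≅ P) := by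
  obtain ⟨d⟩ := MiscFlat6.nonempty_dualIso hL
  let D := MiscFlat6.dual L
  have hD : PicF.IsInvertible D := MiscFlat6.dual_isInvertible hL
  have hch : ∀ x : X, ∃ (U : X.affineOpens) (e : Γ(P, U.1)) (g : Γ(L, U.1)) (h : Γ(D, U.1)),
      x ∈ U.1 ∧ GenOn P e ∧ GenOn L g ∧ GenOn D h := fun x => by
    obtain ⟨A, e, hA, he⟩ := TwistLib.exists_genOn hP x
    obtain ⟨B, g, hB, hg⟩ := TwistLib.exists_genOn hL x
    obtain ⟨E, h, hE, hh⟩ := TwistLib.exists_genOn hD x
    obtain ⟨U, hU, hx, hle⟩ := exists_isAffineOpen_mem_and_subset (U := A ⊓ (B ⊓ E)) (x := x) ⟨hA, hB, hE⟩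
    exact ⟨⟨U, hU⟩, _, _, _, hx, he.res (fun z hz => (hle hz).1 : U ≤ A),
      hg.res (fun z hz => (hle hz).2.1 : U ≤ B), hh.res (fun z hz => (hle hz).2.2 : U ≤ E)⟩
  choose U e g h hxU he hg hh using hch
  have hcoef : ∀ x, ∃ a : Γ(X, (U x).1), a • g x = c.app (U x).1 (e x) := fun x => by
    obtain ⟨a, ha⟩ := (hg x (U x).1 le_rfl).2 (c.app (U x).1 (e x))
    exact ⟨a, by simpa only [AmpleLib.res_refl] using ha⟩
  choose a ha using hcoef
  have ha0 : ∀ x, a x ≠ 0 := fun x h0 => by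
    haveI : Nonempty (U x).1 := ⟨⟨x, hxU x⟩⟩
    have h1 : c.app (U x).1 (e x) = 0 := by rw [← ha, h0, zero_smul]
    have h2 : e x = 0 := QCohLib.app_injective_of_mono c (U x).1 (h1.trans (map_zero _).symm)
    refine one_ne_zero ((he x (U x).1 le_rfl).1 (a₁ := (1 : Γ(X, (U x).1))) (a₂ := 0) ?_)
    simp [h2, AmpleLib.res_refl]
  let I := Fitt.sheafIdeal (cokernel c) 0
  have hI : BlowUp.IsEffCartierIdeal I := fun x => by
    haveI : Nonempty (U x).1 := ⟨⟨x, hxU x⟩⟩
    exact ⟨U x, hxU x, a x, mem_nonZeroDivisors_of_ne_zero (ha0 x), fitt_coker_chart hP hL c (he x) (hg x) (ha x)⟩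
  let θ : CohB1.tensorMod P D ⟶ Coh.structureModule X :=
    ((DCoh.tensorBi (X := X)).map c).app D ≫ (show KFlatLib.tens L D ⟶ Coh.structureModule X from d.hom)
  have hgen : ∀ x, GenOn (Coh.structureModule X) (d.hom.app (U x).1 (AmpleLib.shT (g x) (h x))) := fun x =>
    TwistLib.genOn_of_genAt fun z hz => (TwistLib.genAt_app_iso d _ hz).mpr
      ((AmpleThLib.shT_genOn (hg x) (hh x)).genAt hz)
  obtain ⟨v, -⟩ := SymSqLib.exists_iso_idealMod (F := CohB1.tensorMod P D) I hI θ U (fun x => ⟨x, hxU x⟩)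
    (fun x => AmpleLib.shT (e x) (h x)) (fun x => AmpleThLib.shT_genOn (he x) (hh x)) fun x => by
      let w : Γ(X, (U x).1) := d.hom.app (U x).1 (AmpleLib.shT (g x) (h x))
      have hw : IsUnit w := by
        obtain ⟨b, hb⟩ := (hgen x (U x).1 le_rfl).2 (show Γ(Coh.structureModule X, (U x).1) from (1 : Γ(X, (U x).1)))
        dsimp only at hb
        rw [AmpleLib.res_refl] at hb
        exact IsUnit.of_mul_eq_one_right b hb
      have hθ : (show Γ(X, (U x).1) from θ.app (U x).1 (AmpleLib.shT (e x) (h x))) = a x * w := by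
        show d.hom.app (U x).1 ((((DCoh.tensorBi (X := X)).map c).app D).app (U x).1 (KFlatLib.shTm (e x) (h x))) = _
        rw [KFlatLib.tensorBi_map₁_shTm, ← ha x, DerBCLib.shTm_smul_left]
        exact QCohLib.app_smul d.hom _ _ _
      rw [fitt_coker_chart hP hL c (he x) (hg x) (ha x)]
      refine (Ideal.span_singleton_mul_right_unit hw (a x)).symm.trans ?_
      exact congrArg (fun t => Ideal.span {t}) hθ.symm
  exact ⟨congrRight L v.symm ≪≫ congrRight L (swapIso P D) ≪≫ (assocIso L D P).symm ≪≫ congrLeft d P ≪≫ unitLeft P⟩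

end RamifLib
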