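import Groth.Agent.OmegaAffLib.Exact
import Groth.Agent.OmegaAffLib.Universal
import Groth.Agent.OmegaAffLib.DiffCompat
import Groth.Agent.OmegaAffLib.Consequences
import Groth.Agent.CurvLib.Line
import Groth.Agent.CurvLib.Euler
import Mathlib.RingTheory.Etale.Field

/-! The sequence of differentials of a separable finite morphism of integral curves. -/

set_option autoImplicit false
set_option linter.style.haveILetI false
set_option maxHeartbeats 1000000
universe u

open CategoryTheory CategoryTheory.Limits AlgebraicGeometry TopologicalSpace Opposite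

noncomputable section

namespace RamifLib

/-- Differentials of a generically separable extension are torsion. -/
theorem exists_smul_eq_zero {A B K L : Type u} [CommRing A] [IsDomain A] [CommRing B] [IsDomain B] [Field K] [Field L]
    [Algebra A K] [IsFractionRing A K] [Algebra B L] [IsFractionRing B L] [Algebra K L] [Algebra A B]
    [Algebra A L] [IsScalarTower A K L] [IsScalarTower A B L] [Algebra.IsSeparable K L]
    [Algebra.EssFiniteType A B] (w : Ω[B⁄A]) : ∃ r : B, r ≠ 0 ∧ r • w = 0 := by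
  haveI : Algebra.EssFiniteType B L := Algebra.EssFiniteType.of_isLocalization L (nonZeroDivisors B)
  haveI : Algebra.EssFiniteType A L := Algebra.EssFiniteType.comp A B L
  haveI : Algebra.EssFiniteType K L := Algebra.EssFiniteType.of_comp A K L
  haveI : Algebra.FormallyUnramified A K := Algebra.FormallyUnramified.of_isLocalization (nonZeroDivisors A)
  haveI : Algebra.FormallyUnramified K L := Algebra.FormallyUnramified.of_isSeparable K L
  haveI : Algebra.FormallyUnramified A L := Algebra.FormallyUnramified.comp A K L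
  haveI : IsLocalizedModule (nonZeroDivisors B) (KaehlerDifferential.map A A B L) := KaehlerDifferential.isLocalizedModule_map A B L (nonZeroDivisors B)
  have h0 : KaehlerDifferential.map A A B L w = KaehlerDifferential.map A A B L 0 := Subsingleton.elim _ _
  obtain ⟨⟨c, hc⟩, hcw⟩ := (IsLocalizedModule.eq_iff_exists (nonZeroDivisors B) _).1 h0
  exact ⟨c, nonZeroDivisors.ne_zero hc, hcw.trans (smul_zero _)⟩

/-- The cokernel of the map of differentials. -/
theorem nonempty_cokernel_iso {X Y S : Scheme.{u}} {f : X ⟶ Y} {g : Y ⟶ S}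
    {ΩY : Y.Modules} {dY : OmegaSh.Der g ΩY} {ΩX : X.Modules} {dX : OmegaSh.Der (f ≫ g) ΩX}
    {ΩXY : X.Modules} {dXY : OmegaSh.Der f ΩXY}
    {c₁ : (Scheme.Modules.pullback f).obj ΩY ⟶ ΩX} {c₂ : (Scheme.Modules.pullback (𝟙 X)).obj ΩX ⟶ ΩXY}
    (hY : OmegaSh.IsUniversal dY) (hX : OmegaSh.IsUniversal dX) (hXY : OmegaSh.IsUniversal dXY)
    (hc₁ : OmegaSh.IsDiffCompat f dY dX c₁) (hc₂ : OmegaSh.IsDiffCompat (𝟙 X) dX dXY c₂) :
    Nonempty (cokernel c₁ ≅ ΩXY) := by
  haveI := OmegaAffLib.epi_proj hXY hc₂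
  let p := (Scheme.Modules.pullbackId X).inv.app ΩX ≫ c₂
  have w : c₁ ≫ p = 0 := OmegaAffLib.comp_proj_eq_zero hY hc₁ hc₂
  have hl : IsColimit (CokernelCofork.ofπ p w) :=
    CokernelCofork.IsColimit.ofπ' _ _ fun {M} φ hφ => ⟨(hXY M (OmegaAffLib.descDer hc₁ φ hφ)).choose, by
      refine OmegaAffLib.der_hom_ext hX fun U s => ?_
      rw [Scheme.Modules.Hom.comp_app, ConcreteCategory.comp_apply, OmegaAffLib.proj_d hc₂]
      exact congrArg (fun D : OmegaSh.Der f M => D.app U s) (hXY M (OmegaAffLib.descDer hc₁ φ hφ)).choose_spec.1⟩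
  exact ⟨(cokernelIsCokernel c₁).coconePointUniqueUpToIso hl⟩

variable {k : Type u} [Field k] {X Y : Scheme.{u}} [X.Over (Spec (CommRingCat.of k))] [Y.Over (Spec (CommRingCat.of k))]
  [IsIntegral X] [IsIntegral Y] [IsProper (X ↘ Spec (CommRingCat.of k))]

/-- Differentials of a separable finite morphism: an injective map of line bundles with cokernel `Ω_{X/Y}`. -/
theorem exists_hom (f : X ⟶ Y) [IsFinite f] (hf : f ≫ (Y ↘ Spec (CommRingCat.of k)) = X ↘ Spec (CommRingCat.of k))
    [QuasiSeparated (Y ↘ Spec (CommRingCat.of k))]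
    (e : f (genericPoint X) = genericPoint Y)
    (hΩX : PicF.IsInvertible (Omega.sheaf (X ↘ Spec (CommRingCat.of k))))
    (hsep : @Algebra.IsSeparable Y.functionField X.functionField _ _
      ((Y.presheaf.stalkSpecializes (specializes_of_eq e) ≫ f.stalkMap (genericPoint X)).hom).toAlgebra) :
    ∃ c : (Scheme.Modules.pullback f).obj (Omega.sheaf (Y ↘ Spec (CommRingCat.of k))) ⟶
      Omega.sheaf (X ↘ Spec (CommRingCat.of k)), c ≠ 0 ∧ Nonempty (cokernel c ≅ Omega.sheaf f) := by
  let q := Y ↘ Spec (CommRingCat.of k)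
  let p := f ≫ q
  rw [← hf] at hΩX ⊢
  have hY : OmegaSh.IsUniversal (OmegaSh.dOmega q) := OmegaAffLib.isUniversal_dOmega
  have hX : OmegaSh.IsUniversal (OmegaSh.dOmega p) := OmegaAffLib.isUniversal_dOmega
  have hXY : OmegaSh.IsUniversal (OmegaSh.dOmega f) := OmegaAffLib.isUniversal_dOmega
  obtain ⟨c₁, hc₁, -⟩ := OmegaAffLib.existsUnique_diffCompat (b := 𝟙 _) (h := f) (show p ≫ 𝟙 _ = f ≫ q from Category.comp_id _)
    (OmegaSh.dOmega q) hY (OmegaSh.dOmega p)
  obtain ⟨c₂, hc₂, -⟩ := OmegaAffLib.existsUnique_diffCompat (b := q) (h := 𝟙 X) (show f ≫ q = 𝟙 X ≫ p from (Category.id_comp _).symm)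
    (OmegaSh.dOmega p) hX (OmegaSh.dOmega f)
  obtain ⟨ecok⟩ := nonempty_cokernel_iso hY hX hXY hc₁ hc₂
  refine ⟨c₁, fun h0 => ?_, ⟨ecok⟩⟩
  haveI : IsIso (cokernel.π c₁) := by subst h0; infer_instance
  let φ : Omega.sheaf p ≅ Omega.sheaf f := asIso (cokernel.π c₁) ≪≫ ecok
  -- a small affine chart
  obtain ⟨V, hV, hηV, -⟩ := exists_isAffineOpen_mem_and_subset (show genericPoint Y ∈ (⊤ : Y.Opens) from trivial)
  obtain ⟨W, g, hxW, hg⟩ := TwistLib.exists_genOn hΩX (genericPoint X)
  obtain ⟨U, hU, hηU, hle⟩ := exists_isAffineOpen_mem_and_subset (U := W ⊓ f ⁻¹ᵁ V) (x := genericPoint X)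
    ⟨hxW, show f (genericPoint X) ∈ V by rw [e]; exact hηV⟩
  have hWle : U ≤ W := fun z hz => (hle hz).1
  have hVle : U ≤ f ⁻¹ᵁ V := fun z hz => (hle hz).2
  haveI : Nonempty V := ⟨⟨_, hηV⟩⟩
  haveI : Nonempty U := ⟨⟨_, hηU⟩⟩
  letI : Algebra Γ(Y, V) Γ(X, U) := (f.appLE V U hVle).hom.toAlgebra
  letI algF : Algebra Y.functionField X.functionField :=
    ((Y.presheaf.stalkSpecializes (specializes_of_eq e) ≫ f.stalkMap (genericPoint X)).hom).toAlgebra
  haveI : Algebra.IsSeparable Y.functionField X.functionField := hsep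
  letI : Algebra Γ(Y, V) X.functionField := ((algebraMap Γ(X, U) X.functionField).comp (algebraMap Γ(Y, V) Γ(X, U))).toAlgebra
  haveI : IsScalarTower Γ(Y, V) Γ(X, U) X.functionField := IsScalarTower.of_algebraMap_eq fun _ => rfl
  haveI : IsScalarTower Γ(Y, V) Y.functionField X.functionField := IsScalarTower.of_algebraMap_eq fun r => by
    show (X.presheaf.germ U (genericPoint X) hηU).hom ((f.appLE V U hVle).hom r) =
      (f.stalkMap (genericPoint X)).hom ((Y.presheaf.stalkSpecializes (specializes_of_eq e)).hom (Y.presheaf.germ V (genericPoint Y) hηV r))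
    erw [TopCat.Presheaf.germ_stalkSpecializes_apply, Scheme.Hom.germ_stalkMap_apply]
    exact TopCat.Presheaf.germ_res_apply _ _ _ _ _
  haveI := functionField_isFractionRing_of_isAffineOpen Y V hV
  haveI := functionField_isFractionRing_of_isAffineOpen X U hU
  haveI : Algebra.FiniteType Γ(Y, V) Γ(X, U) := f.finiteType_appLE hV hU hVle
  obtain ⟨ev, -⟩ := OmegaAffLib.exists_equiv hXY hV hU hVle
  obtain ⟨w, hw⟩ := ev.surjective (φ.hom.app U (AmpleLib.res _ hWle g))
  obtain ⟨r, hr, hrw⟩ := exists_smul_eq_zero (K := Y.functionField) (L := X.functionField) w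
  refine hr ((hg U hWle).1 ?_)
  dsimp only
  rw [zero_smul]
  refine (ConcreteCategory.bijective_of_isIso (φ.hom.app U)).1 (Eq.trans ?_ (map_zero _).symm)
  exact (QCohLib.app_smul φ.hom U r _).trans (by rw [← hw, ← map_smul ev, hrw, map_zero])

end RamifLib
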